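import Groth.Agent.Variety.K432.PStat
import Groth.Agent.Variety.K432.AmpCurve
import Groth.Agent.Variety.K432.VB
import Groth.Agent.Variety.K424.NakMain
import Groth.Agent.Vanish.K909.NefIff
import Groth.Agent.EGA2.K31.RelPow
import Groth.Agent.EGA2.K30.AmpleLoc
import Groth.Agent.EGA2.K34.TwistCover
import Groth.Agent.EGA2.K35.ProjBundle
import Groth.Agent.S2331
import Groth.Agent.VBCurve.K705.Gen1Alg
import Groth.Agent.ASBun.K791.Tens
import Groth.Agent.ParSh.K958.TwistSupp
import Groth.Agent.Pic13.H945.DegAmple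
import Groth.Agent.CalgB.ProjImm2
import Groth.Agent.EtpbcA.CdFinDim

/-!
# Nef vector bundles and ampleness of twists on curves

* `isAmple_of_nef`: for `E` curve-test nef on a curve `C` and `H` ample on `C`, the fundamental module of
  `P(H ⊗ E)` is ample.
* `deg_nonneg_of_ample`: conversely, if the fundamental module of `P(H ⊗ E)` is ample for `H` of degree one, every
  invertible quotient of `E` has nonnegative degree.
-/

set_option autoImplicit false
universe u
open CategoryTheory CategoryTheory.Limits AlgebraicGeometry TopologicalSpace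

namespace K250.NefAmple

open Groth.Agent Groth.Agent.Grpsch.PicGrp K432.PBun K432.NefBasic K432.CurveDeg K432.PStat K432.AmpCurve
open Groth.Agent.ASBun.K791.Tens (pullTens tensMap tensComm tensAssoc tensLUnit tensRUnit)

variable {k : Type u} [Field k]

/-- An epimorphism stays epi after tensoring. -/
theorem epi_tensor {X : Scheme.{u}} (H : X.Modules) {A B : X.Modules} (q : A ⟶ B) (hq : Epi q) :
    ∃ t : CohB1.tensorMod H A ⟶ CohB1.tensorMod H B, Epi t :=
  ⟨(DCoh.tensorBi.obj H).map q, (K958.TwistSupp.exact_tensor H (ShortComplex.mk (kernel.ι q) q (kernel.condition q))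
    (ShortComplex.exact_of_f_is_kernel _ (kernelIsKernel q))).2⟩

theorem epi_pull {X Y : Scheme.{u}} (f : X ⟶ Y) {A B : Y.Modules} (q : A ⟶ B) (hq : Epi q) :
    ∃ t : (Scheme.Modules.pullback f).obj A ⟶ (Scheme.Modules.pullback f).obj B, Epi t :=
  ⟨(Scheme.Modules.pullback f).map q, inferInstance⟩

theorem epi_iso {X : Scheme.{u}} {A A' B B' : X.Modules} (a : A' ≅ A) (b : B ≅ B')
    (h : ∃ t : A ⟶ B, Epi t) : ∃ t : A' ⟶ B', Epi t := by
  obtain ⟨t, ht⟩ := h
  exact ⟨a.hom ≫ t ≫ b.hom, inferInstance⟩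

/-- Nefness in the sense of `K909` from nefness in the sense of `K432`. -/
theorem nef_conv {X : Scheme.{u}} [X.Over (Spec (CommRingCat.of k))] [IsProper (X ↘ (Spec (CommRingCat.of k)))]
    {L : X.Modules} (hL : PicF.IsInvertible L) (h : Nef (X ↘ (Spec (CommRingCat.of k))) L) :
    K909.Kleiman.Nef k X L := by
  intro Y i _ hY hdim
  have hp : IsProper (i ≫ (X ↘ (Spec (CommRingCat.of k)))) := inferInstance
  have h1 := h.dg_nonneg hL hdim i
  have hLY : PicF.IsInvertible ((Scheme.Modules.pullback i).obj L) := Fdesc.LocGen.isInvertible_pullback i hL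
  rw [Pic13.H945.DegAmple.curveDeg_eq_dg k _ hLY]
  let : Y.Over (Spec (CommRingCat.of k)) := ⟨i ≫ (X ↘ (Spec (CommRingCat.of k)))⟩
  have hp' : IsProper (Y ↘ (Spec (CommRingCat.of k))) := hp
  have h2 : 0 ≤ Curv2.deg k Y ((Scheme.Modules.pullback i).obj L) 1 := h1
  rw [← Pic13.H945.DegAmple.dg_eq_deg k Y hdim hLY] at h2
  exact h2

variable {C P : Scheme.{u}}

/-- The quotient `p^*E ↠ p^*H⁻¹ ⊗ O(1)` on `P(H ⊗ E)`. -/
theorem exists_epi {E H : C.Modules} (hH : PicF.IsInvertible H) {p : P ⟶ C} {O1 : P.Modules}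
    (h : ∃ t : (Scheme.Modules.pullback p).obj (CohB1.tensorMod H E) ⟶ O1, Epi t) :
    ∃ t : (Scheme.Modules.pullback p).obj E ⟶
      CohB1.tensorMod ((Scheme.Modules.pullback p).obj (dual H)) O1, Epi t := by
  obtain ⟨t, ht⟩ := h
  have hev : IsIso (ev H) := isIso_ev hH
  have e : E ≅ CohB1.tensorMod (dual H) (CohB1.tensorMod H E) :=
    (tensLUnit E).symm ≪≫ tensMap ((asIso (ev H)).symm ≪≫ tensComm _ _) (Iso.refl E) ≪≫ tensAssoc _ _ _
  exact epi_iso ((Scheme.Modules.pullback p).mapIso e ≪≫ pullTens p _ _) (Iso.refl _) (epi_tensor _ t ht)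

/-- `p^*H⁻¹ ⊗ O(1)` is nef on `P(H ⊗ E)` for `E` nef. -/
theorem nef_twist {E H : C.Modules} (hH : PicF.IsInvertible H) {p : P ⟶ C} [IsProper p] {O1 : P.Modules}
    (hO : PicF.IsInvertible O1) (s : C ⟶ Spec (CommRingCat.of k)) [IsProper s]
    (h : ∃ t : (Scheme.Modules.pullback p).obj (CohB1.tensorMod H E) ⟶ O1, Epi t) (hE : CNef s E) :
    Nef (p ≫ s) (CohB1.tensorMod ((Scheme.Modules.pullback p).obj (dual H)) O1) := by
  have hN : PicF.IsInvertible (CohB1.tensorMod ((Scheme.Modules.pullback p).obj (dual H)) O1) :=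
    Fdesc.LocGen.isInvertible_tensorMod (Fdesc.LocGen.isInvertible_pullback p (isInvertible_dual hH)) hO
  rw [nef_iff hN]
  intro D _ g _ hD
  obtain ⟨t, ht⟩ := exists_epi hH h
  obtain ⟨q, hq⟩ := epi_iso ((Scheme.Modules.pullbackComp g p).symm.app E) (Iso.refl _) (epi_pull g t ht)
  have hgp : IsProper ((g ≫ p) ≫ s) := by rw [Category.assoc]; infer_instance
  have h1 := hE D (g ≫ p) hD _ (Fdesc.LocGen.isInvertible_pullback g hN) q hq
  rw [Category.assoc] at h1
  exact h1

/-- Ampleness of the fundamental module of `P(H ⊗ E)`. -/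
theorem isAmple_of_nef [P.Over (Spec (CommRingCat.of k))] [IsProper (P ↘ (Spec (CommRingCat.of k)))]
    {E H : C.Modules} (hH : CohB1.IsAmple H) {p : P ⟶ C} [IsProper p] {O1 : P.Modules}
    (hO : PicF.IsInvertible O1) (hrel : RelAmple.IsRelAmple p O1)
    (s : C ⟶ Spec (CommRingCat.of k)) [IsProper s] (hs : p ≫ s = P ↘ (Spec (CommRingCat.of k)))
    (h : ∃ t : (Scheme.Modules.pullback p).obj (CohB1.tensorMod H E) ⟶ O1, Epi t) (hE : CNef s E) :
    CohB1.IsAmple O1 := by
  have hnef := nef_twist hH.1 hO s h hE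
  rw [hs] at hnef
  have hN : PicF.IsInvertible (CohB1.tensorMod ((Scheme.Modules.pullback p).obj (dual H)) O1) :=
    Fdesc.LocGen.isInvertible_tensorMod (Fdesc.LocGen.isInvertible_pullback p (isInvertible_dual hH.1)) hO
  obtain ⟨n, hn, hA⟩ := S2331.result p s O1 H hrel (CalgB.ProjImm.isRelAmple_of_isAmple hH)
  have hA' : CohB1.IsAmple (CohB1.tensorMod O1 ((Scheme.Modules.pullback p).obj (CohB1.tensorPow H n))) := by
    rw [← Ega2.RelAmp.isRelAmple_iff_isAmple (f := p ≫ s)]
    exact hA n le_rfl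
  obtain ⟨d, hd⟩ := EtpbcA.CdFinDim.exists_dim_le (P ↘ (Spec (CommRingCat.of k)))
  have h1 := K909.Kleiman.isAmple_tensorPow_tensor k (K424.NakMain.nak k) P d hd _ _ (nef_conv hN hnef) hN hA' n
  rw [K30.AmpleLoc.isAmple_iff_tensorPow hO (n := n + 1) n.succ_pos]
  have hpow := Fdesc.LocGen.isInvertible_tensorPow hO (n + 1)
  have e : mk _ h1.1 = mk _ hpow := by
    have e1 : mk _ h1.1 = mk _ hN ^ n * (mk O1 hO * pull p (mk H hH.1) ^ n) := by
      rw [← map_pow, ← mk_tensorPow hH.1, pull_mk, mk_mul_mk, ← mk_tensorPow hN, mk_mul_mk]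
    have e2 : mk _ hN = (pull p (mk H hH.1))⁻¹ * mk O1 hO := by
      rw [← map_inv, inv_mk hH.1, pull_mk, mk_mul_mk]
    rw [e1, e2, mk_tensorPow hO, mul_pow, inv_pow, pow_succ, mul_assoc, ← mul_assoc (mk O1 hO ^ n),
      mul_comm (mk O1 hO ^ n * mk O1 hO), inv_mul_cancel_left]
  obtain ⟨i⟩ := (mk_eq_iff _ _).mp e
  exact CohqB.AmpCocycle.isAmple_of_iso i h1

/-- If the fundamental module of `P(H ⊗ E)` is ample, then `deg H + deg M > 0` for invertible quotients `M` of `E`. -/
theorem dg_add_pos [C.Over (Spec (CommRingCat.of k))] [IsProper (C ↘ (Spec (CommRingCat.of k)))] [IsIntegral C]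
    (hdim : topologicalKrullDim C = 1) {E H M : C.Modules} (hH : PicF.IsInvertible H) (hM : PicF.IsInvertible M)
    (q : E ⟶ M) (hq : Epi q) {p : P ⟶ C} [IsProper p] {O1 : P.Modules}
    {φ : CohB1.tensorMod H E ⟶ (Scheme.Modules.pushforward p).obj O1} (hP : IsPBun (CohB1.tensorMod H E) p O1 φ)
    (hO : CohB1.IsAmple O1) :
    0 < dg (C ↘ (Spec (CommRingCat.of k))) H + dg (C ↘ (Spec (CommRingCat.of k))) M := by
  obtain ⟨t, ht⟩ := epi_iso ((Scheme.Modules.pullbackId C).app (CohB1.tensorMod H E)) (Iso.refl _) (epi_tensor H q hq)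
  obtain ⟨r, hr, ⟨e⟩⟩ := hP.exists_of_epi (Fdesc.LocGen.isInvertible_tensorMod hH hM) t ht
  have h1 : IsAffineHom r := by
    have : IsClosedImmersion (r ≫ p) := by rw [hr]; infer_instance
    have : IsClosedImmersion r := IsClosedImmersion.of_comp r p
    infer_instance
  have h2 := dg_pos_of_isAmple (C ↘ (Spec (CommRingCat.of k))) hdim r hO
  rwa [dg_congr _ e, dg_tensor _ hdim hH hM] at h2

/-- Existence of an ample invertible module of degree one on a regular proper curve over an algebraically closed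
field. -/
theorem exists_ample_one [IsAlgClosed k] [C.Over (Spec (CommRingCat.of k))] [IsProper (C ↘ (Spec (CommRingCat.of k)))]
    [IsIntegral C] (hdim : topologicalKrullDim C = 1) (hreg : ∀ x : C, IsRegularLocalRing (C.presheaf.stalk x)) :
    ∃ H : C.Modules, CohB1.IsAmple H ∧ dg (C ↘ (Spec (CommRingCat.of k))) H = 1 := by
  obtain ⟨H, hH, h1⟩ := K705.Gen1Alg.exists_inv_deg k (K432.VB.crv_of_regular k C hdim hreg) 1
  rw [K707.Deg.dg_of_rank k (K707.TensL.rank_one_iff.mpr hH)] at h1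
  refine ⟨H, (S1530.result k C hdim H hH).2 (by rw [h1]; exact one_pos), h1⟩

end K250.NefAmple
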